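import Mathlib
import Groth.Agent.H33.MV.DerivedAbs
import Groth.Agent.H33.SchemeDer.Restrict
import Groth.Prelude.Def_CxOX

/-!
# `RΓ_Z(G)` restricts to zero on the open complement of `Z`
-/

set_option autoImplicit false
universe u
open CategoryTheory CategoryTheory.Limits AlgebraicGeometry Scheme.Modules

attribute [local instance] HasDerivedCategory.standard

namespace Groth.Agent.H33.LocCoh

variable {U X : Scheme.{u}} (j : U ⟶ X) [IsOpenImmersion j]

instance mono_restrict_unit (M : X.Modules) :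
    Mono ((restrictFunctor j).map ((restrictAdjunction j).unit.app M)) :=
  SplitMono.mono ⟨(restrictAdjunction j).counit.app _,
    (restrictAdjunction j).left_triangle_components M⟩

/-- `Γ_Z(M)|_U = 0` -/
lemma isZero_restrict_gammaZ (M : X.Modules) :
    IsZero ((restrictFunctor j).obj ((DCoh.gammaZ j).obj M)) :=
  IsZero.of_iso (isZero_kernel_of_mono _)
    (PreservesKernel.iso (restrictFunctor j) ((restrictAdjunction j).unit.app M))

lemma isZero_homologicalComplex_of_X {C : Type*} [Category C] [HasZeroMorphisms C] {ι : Type*}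
    {c : ComplexShape ι} (K : HomologicalComplex C c) (h : ∀ n, IsZero (K.X n)) : IsZero K := by
  rw [IsZero.iff_id_eq_zero]
  ext n
  exact (h n).eq_of_src _ _

/-- every object of `D(O_X)` is represented by a K-injective complex -/
lemma exists_kInjective_rep (G : DCoh.D X) :
    ∃ (I : CochainComplex X.Modules ℤ), I.IsKInjective ∧ Nonempty (G ≅ DerivedCategory.Q.obj I) := by
  obtain ⟨I, f, hI, hf⟩ := Groth.Agent.H33.SchemeDer.hKinj X (DerivedCategory.Q.objPreimage G)
  have : IsIso (DerivedCategory.Q.map f) := by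
    rw [DerivedCategory.isIso_Q_map_iff_quasiIso]
    exact hf
  exact ⟨I, hI, ⟨(DerivedCategory.Q.objObjPreimageIso G).symm ≪≫ asIso (DerivedCategory.Q.map f)⟩⟩

/-- `RΓ_Z(G)|_U = 0` -/
theorem isZero_restrictD_RgammaZ [CxOX.HasRgammaZ j] (G : DCoh.D X) :
    IsZero ((DCoh.restrictD j).obj ((CxOX.RgammaZ j).obj G)) := by
  obtain ⟨I, hI, ⟨e⟩⟩ := exists_kInjective_rep G
  obtain ⟨e₁⟩ := Groth.Agent.H33.MV.nonempty_Q_iso_totalRightDerived
    (Groth.Agent.H33.SchemeDer.hKinj X) (DCoh.gammaZ j) I hI
  let Z := ((DCoh.gammaZ j).mapHomologicalComplex (ComplexShape.up ℤ)).obj I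
  have hZ : IsZero (((restrictFunctor j).mapHomologicalComplex (ComplexShape.up ℤ)).obj Z) :=
    isZero_homologicalComplex_of_X _ (fun n => isZero_restrict_gammaZ j (I.X n))
  refine IsZero.of_iso (DerivedCategory.Q.map_isZero hZ) ?_
  exact (DCoh.restrictD j).mapIso ((CxOX.RgammaZ j).mapIso e ≪≫ e₁.symm) ≪≫
    (restrictFunctor j).mapDerivedCategoryFactors.app Z

end Groth.Agent.H33.LocCoh
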