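import Mathlib
import Groth.Agent.H33.MV.Sect
import Groth.Agent.H33.MV.Flasque
import Groth.Agent.H33.MV.DerivedAbs
import Groth.Agent.H33.LocCoh.GammaZRestrict
import Groth.Prelude.Def_CxOX

/-!
# The short exact sequence `0 ⟶ Γ_Z(I) ⟶ I ⟶ j_* j^* I ⟶ 0` for injective `I`
-/

set_option autoImplicit false
universe u
open CategoryTheory CategoryTheory.Limits AlgebraicGeometry Scheme.Modules

attribute [local instance] HasDerivedCategory.standard

namespace Groth.Agent.H33.LocCoh

variable {U X : Scheme.{u}} (j : U ⟶ X) [IsOpenImmersion j]

lemma gammaZι_app (M : X.Modules) :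
    (CxOX.gammaZι j).app M = kernel.ι ((restrictAdjunction j).unit.app M) := rfl

@[reassoc]
lemma gammaZι_comp_unit (M : X.Modules) :
    (CxOX.gammaZι j).app M ≫ (restrictAdjunction j).unit.app M = 0 := by
  rw [gammaZι_app]
  exact kernel.condition _

instance epi_unit_of_injective (M : X.Modules) [Injective M] :
    Epi ((restrictAdjunction j).unit.app M) := by
  apply Groth.Agent.H33.MV.epi_of_surjective_app
  intro O
  rw [restrictAdjunction_unit_app_app]
  exact Groth.Agent.H33.MV.surjective_presheaf_map_of_injective M _

theorem shortExact_gammaZ (M : X.Modules) [Injective M] :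
    (ShortComplex.mk _ _ (gammaZι_comp_unit j M)).ShortExact := by
  have hm : Mono ((CxOX.gammaZι j).app M) := by
    rw [gammaZι_app]
    exact equalizer.ι_mono
  refine ShortComplex.ShortExact.mk' ?_ hm (epi_unit_of_injective j M)
  exact ShortComplex.exact_of_f_is_kernel _ (kernelIsKernel _)

instance additive_pushforward : (pushforward j).Additive := by
  have : (pushforward j).IsRightAdjoint := (restrictAdjunction j).isRightAdjoint
  exact Functor.additive_of_preserves_binary_products _

/-- the distinguished triangle `Γ_Z(I) ⟶ I ⟶ j_* j^* I` for a termwise injective complex `I` -/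
theorem exists_triangle_gammaZ (I : CochainComplex X.Modules ℤ) (hI : ∀ n, Injective (I.X n)) :
    ∃ c : DerivedCategory.Q.obj (((restrictFunctor j ⋙ pushforward j).mapHomologicalComplex
        (ComplexShape.up ℤ)).obj I) ⟶
        (DerivedCategory.Q.obj (((DCoh.gammaZ j).mapHomologicalComplex
          (ComplexShape.up ℤ)).obj I))⟦(1 : ℤ)⟧,
      Pretriangulated.Triangle.mk
        (DerivedCategory.Q.map
          ((NatTrans.mapHomologicalComplex (CxOX.gammaZι j) (ComplexShape.up ℤ)).app I))
        (DerivedCategory.Q.map
          ((NatTrans.mapHomologicalComplex (restrictAdjunction j).unit (ComplexShape.up ℤ)).app I))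
        c ∈ distTriang (DerivedCategory X.Modules) :=
  Groth.Agent.H33.MV.exists_triangle_of_natTrans (CxOX.gammaZι j) (restrictAdjunction j).unit
    (gammaZι_comp_unit j) I (fun n => by
      have := hI n
      exact shortExact_gammaZ j (I.X n))

end Groth.Agent.H33.LocCoh
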