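import Mathlib
import Groth.Agent.H16.ExactDer
import Groth.Prelude.Def_CxOX

/-!
# Isomorphisms of modules and of complexes are detected on open covers
-/

set_option autoImplicit false
universe u
open CategoryTheory CategoryTheory.Limits AlgebraicGeometry Scheme.Modules

attribute [local instance] HasDerivedCategory.standard

namespace Groth.Agent.H33.LocCoh

variable {Y : Scheme.{u}}

/-- the stalk map of `ψ` at `g x` is an isomorphism if `g^* ψ` is an isomorphism -/
lemma isIso_stalk_map_of_isIso_restrict {U : Scheme.{u}} (g : U ⟶ Y) [IsOpenImmersion g]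
    {M N : Y.Modules} (ψ : M ⟶ N) [IsIso ((restrictFunctor g).map ψ)] (x : U) :
    IsIso ((TopCat.Presheaf.stalkFunctor Ab (g.base x)).map ((toPresheaf Y).map ψ)) := by
  have h : IsIso ((restrictFunctor g ⋙ toPresheaf _ ⋙ TopCat.Presheaf.stalkFunctor _ x).map ψ) := by
    dsimp only [Functor.comp_map]
    infer_instance
  exact (NatIso.isIso_map_iff (restrictStalkNatIso g x) ψ).1 h

/-- A morphism of modules which restricts to an isomorphism on each member of a jointly
surjective family of open immersions is an isomorphism. -/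
theorem isIso_of_isIso_restrict {M N : Y.Modules} (ψ : M ⟶ N)
    (h : ∀ y : Y, ∃ (U : Scheme.{u}) (g : U ⟶ Y) (_ : IsOpenImmersion g) (x : U),
      g.base x = y ∧ IsIso ((restrictFunctor g).map ψ)) : IsIso ψ := by
  rw [← isIso_iff_of_reflects_iso _ (toPresheaf Y)]
  let F : TopCat.Sheaf Ab Y := ⟨M.presheaf, M.isSheaf⟩
  let G : TopCat.Sheaf Ab Y := ⟨N.presheaf, N.isSheaf⟩
  let f : F ⟶ G := ⟨(toPresheaf Y).map ψ⟩
  have : ∀ y : Y, IsIso ((TopCat.Presheaf.stalkFunctor Ab y).map f.1) := by
    intro y
    obtain ⟨U, g, hg, x, rfl, hiso⟩ := h y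
    exact isIso_stalk_map_of_isIso_restrict g ψ x
  have hf : IsIso f := TopCat.Presheaf.isIso_of_stalkFunctor_map_iso f
  exact (TopCat.Sheaf.forget Ab Y).map_isIso f

/-- A morphism in `D(O_Y)` which restricts to an isomorphism on each member of a jointly
surjective family of open immersions is an isomorphism. -/
theorem isIso_of_isIso_restrictD {E E' : DCoh.D Y} (φ : E ⟶ E')
    (h : ∀ y : Y, ∃ (U : Scheme.{u}) (g : U ⟶ Y) (_ : IsOpenImmersion g) (x : U),
      g.base x = y ∧ IsIso ((DCoh.restrictD g).map φ)) : IsIso φ := by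
  rw [DerivedCategory.isIso_iff]
  intro n
  apply isIso_of_isIso_restrict
  intro y
  obtain ⟨U, g, hg, x, hx, hiso⟩ := h y
  refine ⟨U, g, hg, x, hx, ?_⟩
  have h1 : IsIso ((DCoh.restrictD g ⋙ DerivedCategory.homologyFunctor _ n).map φ) := by
    dsimp only [Functor.comp_map]
    infer_instance
  exact (NatIso.isIso_map_iff (Groth.Agent.H16.ExactDer.homologyNatIso (restrictFunctor g) n) φ).1 h1

end Groth.Agent.H33.LocCoh
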