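import Mathlib
import Groth.Agent.H33.DerAdjU

/-!
# The unit of the derived adjunction on a complex
-/

set_option autoImplicit false

open CategoryTheory Limits

namespace Groth.Agent.H33.DerAdjU

universe w₁ w₂ v₁ v₂ u₁ u₂

open Groth.Agent.H5.KInjDeriv

section

variable {A B : Type*} [Category A] [Category B] [Preadditive A] [Preadditive B]
  {L : A ⥤ B} {R : B ⥤ A} (adj : L ⊣ R) [L.Additive] [R.Additive]
  {ι : Type*} (c : ComplexShape ι)

lemma homotopyAdj_unit_app (K : HomologicalComplex A c) :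
    (homotopyAdj adj c).unit.app ((HomotopyCategory.quotient A c).obj K) =
      (HomotopyCategory.quotient A c).map (unitC adj c K) := rfl

end

variable {A : Type u₁} [Category.{v₁} A] [Abelian A] [HasDerivedCategory.{w₁} A]
  {B : Type u₂} [Category.{v₂} B] [Abelian B] [HasDerivedCategory.{w₂} B]
  {L : A ⥤ B} {R : B ⥤ A} (adj : L ⊣ R) [L.Additive] [R.Additive]
  [PreservesFiniteLimits L] [PreservesFiniteColimits L]
  (hKinj : ∀ K : CochainComplex B ℤ, ∃ (I : CochainComplex B ℤ) (f : K ⟶ I),
    I.IsKInjective ∧ QuasiIso f)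
  [(R.mapHomotopyCategory (ComplexShape.up ℤ) ⋙ DerivedCategory.Qh).HasRightDerivedFunctor
    (HomotopyCategory.quasiIso B (ComplexShape.up ℤ))]

lemma derivedAdj_unit_fac (X₁ : HomotopyCategory A (ComplexShape.up ℤ)) :
    (derivedAdj adj hKinj).unit.app (DerivedCategory.Qh.obj X₁) ≫
      (RR R).map (L.mapDerivedCategoryFactorsh.hom.app X₁) =
    DerivedCategory.Qh.map ((homotopyAdj adj (ComplexShape.up ℤ)).unit.app X₁) ≫
      (RRunit R).app ((L.mapHomotopyCategory (ComplexShape.up ℤ)).obj X₁) := by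
  have := isLeftDerived₁ L
  have := isLeftDerived₂ L R
  exact Adjunction.derivedη_fac_app (homotopyAdj adj (ComplexShape.up ℤ))
    (HomotopyCategory.quasiIso A (ComplexShape.up ℤ)) L.mapDerivedCategoryFactorsh.hom
    (RRunit R) X₁

end Groth.Agent.H33.DerAdjU
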