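import Mathlib
import Groth.Agent.H33.LocCoh.Conservative
import Groth.Agent.H33.LocCoh.GammaZRestrict
import Groth.Agent.H33.Supp.Main
import Groth.Agent.H33.SchemeDer.RestrictPush

/-!
# When is the unit `E ⟶ Rj_* j^* E` an isomorphism?
-/

set_option autoImplicit false
universe u
open CategoryTheory CategoryTheory.Limits AlgebraicGeometry Scheme.Modules

attribute [local instance] HasDerivedCategory.standard

namespace Groth.Agent.H33.LocCoh

variable {X Y : Scheme.{u}} (j : X ⟶ Y) [IsOpenImmersion j]

/-- the derived adjunction `j^* ⊣ Rj_*` -/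
noncomputable def dadj [DCoh.HasRpush j] : DCoh.restrictD j ⊣ DCoh.Rpush j :=
  Groth.Agent.H33.DerAdjU.derivedAdj (restrictAdjunction j) (Groth.Agent.H33.SchemeDer.hKinj X)

instance isIso_dadj_counit [DCoh.HasRpush j] : IsIso (dadj j).counit :=
  Groth.Agent.H33.DerAdjU.isIso_derivedAdj_counit (restrictAdjunction j)
    (Groth.Agent.H33.SchemeDer.hKinj X)

lemma subsingleton_ab_of_iso {A B : Ab} (e : A ≅ B) (h : Subsingleton A) : Subsingleton B := by
  refine ⟨fun a b => ?_⟩
  have h1 : e.inv a = e.inv b := Subsingleton.elim _ _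
  have h2 := congrArg e.hom h1
  simpa using h2

lemma subsingleton_stalk_of_iso {M N : Y.Modules} (e : M ≅ N) (y : Y)
    (h : Subsingleton (M.presheaf.stalk y)) : Subsingleton (N.presheaf.stalk y) :=
  subsingleton_ab_of_iso
    ((TopCat.Presheaf.stalkFunctor Ab y).mapIso ((toPresheaf Y).mapIso e) :
      M.presheaf.stalk y ≅ N.presheaf.stalk y) h

lemma subsingleton_stalk_restrict (M : Y.Modules) (x : X)
    (h : Subsingleton (M.presheaf.stalk (j.base x))) :
    Subsingleton (((restrictFunctor j).obj M).presheaf.stalk x) :=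
  subsingleton_ab_of_iso ((restrictStalkNatIso j x).app M).symm h

/-- stalks of the cohomology sheaves vanish on `W` if `E|_W = 0` -/
lemma subsingleton_stalk_HD_of_isZero_restrictD (W : Y.Opens) (E : DCoh.D Y)
    (hE : IsZero ((DCoh.restrictD W.ι).obj E)) (i : ℤ) (y : Y) (hy : y ∈ W) :
    Subsingleton ((DCoh.HD E i).presheaf.stalk y) := by
  refine Supp.subsingleton_stalk_of_isZero_restrictOpen _ W ?_ hy
  exact IsZero.of_iso ((DerivedCategory.homologyFunctor _ i).map_isZero hE)
    ((Groth.Agent.H16.ExactDer.homologyNatIso (restrictFunctor W.ι) i).app E).symm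

lemma isIso_of_isZero {C : Type*} [Category C] [HasZeroMorphisms C] {A B : C} (f : A ⟶ B)
    (hA : IsZero A) (hB : IsZero B) : IsIso f :=
  ⟨⟨0, hA.eq_of_src _ _, hB.eq_of_src _ _⟩⟩

/-- If `E` restricts to zero on an open `W` whose complement lies in the image of `j`, then the
unit `E ⟶ Rj_* j^* E` is an isomorphism. -/
theorem isIso_dadj_unit_of_isZero_restrictD [DCoh.HasRpush j] (W : Y.Opens)
    (hW : (W : Set Y)ᶜ ⊆ Set.range j.base) (E : DCoh.D Y)
    (hE : IsZero ((DCoh.restrictD W.ι).obj E)) : IsIso ((dadj j).unit.app E) := by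
  apply isIso_of_isIso_restrictD
  intro y
  by_cases hy : y ∈ Set.range j.base
  · obtain ⟨x, rfl⟩ := hy
    refine ⟨X, j, inferInstance, x, rfl, ?_⟩
    have h := (dadj j).left_triangle_components E
    have : IsIso ((dadj j).counit.app ((DCoh.restrictD j).obj E)) := inferInstance
    have : IsIso ((DCoh.restrictD j).map ((dadj j).unit.app E) ≫
        (dadj j).counit.app ((DCoh.restrictD j).obj E)) := by rw [h]; exact IsIso.id _
    exact IsIso.of_isIso_comp_right _ ((dadj j).counit.app ((DCoh.restrictD j).obj E))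
  · have hyW : y ∈ W := by
      by_contra hyW
      exact hy (hW hyW)
    refine ⟨W, W.ι, inferInstance, ⟨y, hyW⟩, rfl, isIso_of_isZero _ hE ?_⟩
    have := Supp.hasRpush (j ∣_ W)
    obtain ⟨e⟩ := Groth.Agent.H33.SchemeDer.restrictD_Rpush_iso j W
    have := Groth.Agent.H33.SchemeDer.additive_rpush (j ∣_ W)
    refine IsZero.of_iso ((DCoh.Rpush (j ∣_ W)).map_isZero ?_)
      (e.app ((DCoh.restrictD j).obj E))
    refine Supp.isZero_restrictD_of_stalks (j ⁻¹ᵁ W).ι _ (fun i w => ?_)
    refine subsingleton_stalk_of_iso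
      ((Groth.Agent.H16.ExactDer.homologyNatIso (restrictFunctor j) i).app E).symm _ ?_
    refine subsingleton_stalk_restrict j _ _ ?_
    exact subsingleton_stalk_HD_of_isZero_restrictD W E hE i _ w.2

/-- The unit of any adjunction `j^* ⊣ Rj_*` at `E` is an isomorphism as soon as the unit of the
standard one is. -/
theorem isIso_unit_of_isIso_dadj_unit [DCoh.HasRpush j] (adj : DCoh.restrictD j ⊣ DCoh.Rpush j)
    (E : DCoh.D Y) (hE : IsIso ((dadj j).unit.app E)) : IsIso (adj.unit.app E) := by
  have : (DCoh.Rpush j).Full := (dadj j).fullyFaithfulROfIsIsoCounit.full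
  have : (DCoh.Rpush j).Faithful := (dadj j).fullyFaithfulROfIsIsoCounit.faithful
  have hc : IsIso adj.counit := inferInstance
  let F := (DCoh.restrictD j).obj E
  have h1 : IsIso (adj.unit.app ((DCoh.Rpush j).obj F)) := by
    have h := adj.right_triangle_components F
    have : IsIso (adj.unit.app ((DCoh.Rpush j).obj F) ≫
        (DCoh.Rpush j).map (adj.counit.app F)) := by rw [h]; exact IsIso.id _
    exact IsIso.of_isIso_comp_right _ ((DCoh.Rpush j).map (adj.counit.app F))
  let e : E ≅ (DCoh.Rpush j).obj F := asIso ((dadj j).unit.app E)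
  have nat := adj.unit.naturality e.hom
  have h2 : adj.unit.app E = e.hom ≫ adj.unit.app ((DCoh.Rpush j).obj F) ≫
      inv ((DCoh.restrictD j ⋙ DCoh.Rpush j).map e.hom) := by
    rw [Functor.id_map] at nat
    rw [← Category.assoc, nat, Category.assoc, IsIso.hom_inv_id, Category.comp_id]
  rw [h2]
  infer_instance

end Groth.Agent.H33.LocCoh
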