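import Mathlib
import Groth.Agent.H33.LocCoh.SES
import Groth.Agent.H33.LocCoh.UnitIso
import Groth.Agent.H33.LocCoh.UnitFac

/-!
# The distinguished triangle `RΓ_Z(K) ⟶ K ⟶ Rj_* j^* K`
-/

set_option autoImplicit false
universe u
open CategoryTheory CategoryTheory.Limits AlgebraicGeometry Scheme.Modules

attribute [local instance] HasDerivedCategory.standard

namespace Groth.Agent.H33.LocCoh

variable {U X : Scheme.{u}} (j : U ⟶ X) [IsOpenImmersion j]

/-- the quotient functor to the homotopy category -/
noncomputable abbrev Hq (X : Scheme.{u}) := HomotopyCategory.quotient X.Modules (ComplexShape.up ℤ)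
/-- the class of quasi-isomorphisms in the homotopy category -/
abbrev Wq (X : Scheme.{u}) := HomotopyCategory.quasiIso X.Modules (ComplexShape.up ℤ)

section first

variable [CxOX.HasRgammaZ j]

/-- the comparison `Q(Γ_Z I) ⟶ RΓ_Z(Q I)` -/
noncomputable def u₁ (I : CochainComplex X.Modules ℤ) :
    DerivedCategory.Q.obj (((DCoh.gammaZ j).mapHomologicalComplex (ComplexShape.up ℤ)).obj I) ⟶
      (CxOX.RgammaZ j).obj (DerivedCategory.Q.obj I) :=
  (DerivedCategory.quotientCompQhIso X.Modules).inv.app _ ≫
    DerivedCategory.Qh.map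
      (((DCoh.gammaZ j).mapHomotopyCategoryFactors (ComplexShape.up ℤ)).inv.app I) ≫
    ((CxOX.gammaZKh j).totalRightDerivedUnit DerivedCategory.Qh (Wq X)).app ((Hq X).obj I) ≫
    (CxOX.RgammaZ j).map ((DerivedCategory.quotientCompQhIso X.Modules).hom.app I)

lemma isIso_u₁ (I : CochainComplex X.Modules ℤ) (hI : I.IsKInjective) : IsIso (u₁ j I) := by
  have := Groth.Agent.H5.KInjDeriv.isIso_totalRightDerivedUnit_app
    (Groth.Agent.H33.SchemeDer.hKinj X) (CxOX.gammaZKh j) I hI
  unfold u₁
  infer_instance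

lemma u₁_comp_RgammaZToId (I : CochainComplex X.Modules ℤ) :
    u₁ j I ≫ (CxOX.RgammaZToId j).app (DerivedCategory.Q.obj I) =
      DerivedCategory.Q.map
        ((NatTrans.mapHomologicalComplex (CxOX.gammaZι j) (ComplexShape.up ℤ)).app I) ≫
      DerivedCategory.Q.map
        ((Functor.mapHomologicalComplexIdIso X.Modules (ComplexShape.up ℤ)).hom.app I) := by
  have nat := (CxOX.RgammaZToId j).naturality
    ((DerivedCategory.quotientCompQhIso X.Modules).hom.app I)
  have fac := Functor.rightDerived_fac_app (CxOX.RgammaZ j)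
    ((CxOX.gammaZKh j).totalRightDerivedUnit DerivedCategory.Qh (Wq X)) (Wq X) (𝟭 (DCoh.D X))
    (CxOX.gammaZKhι j ≫ (Functor.rightUnitor _).inv) ((Hq X).obj I)
  have hι : (CxOX.gammaZKhι j).app ((Hq X).obj I) =
      DerivedCategory.Qh.map
        (((DCoh.gammaZ j).mapHomotopyCategoryFactors (ComplexShape.up ℤ)).hom.app I) ≫
      DerivedCategory.Qh.map ((Hq X).map
        ((NatTrans.mapHomologicalComplex (CxOX.gammaZι j) (ComplexShape.up ℤ)).app I)) ≫
      DerivedCategory.Qh.map ((Hq X).map
        ((Functor.mapHomologicalComplexIdIso X.Modules (ComplexShape.up ℤ)).hom.app I)) := by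
    refine Eq.trans (show _ = NatTrans.app
      (((Functor.associator _ _ _).inv ≫
        Functor.whiskerRight ((DCoh.gammaZ j).mapHomotopyCategoryFactors (ComplexShape.up ℤ)).hom
          DerivedCategory.Qh ≫
        (Functor.associator _ _ _).hom ≫
        Functor.whiskerRight (NatTrans.mapHomologicalComplex (CxOX.gammaZι j) (ComplexShape.up ℤ))
          (HomotopyCategory.quotient _ _ ⋙ DerivedCategory.Qh) ≫
        Functor.whiskerRight (Functor.mapHomologicalComplexIdIso X.Modules (ComplexShape.up ℤ)).hom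
          (HomotopyCategory.quotient _ _ ⋙ DerivedCategory.Qh) ≫
        (Functor.leftUnitor _).hom) :
        HomotopyCategory.quotient _ _ ⋙ CxOX.gammaZKh j ⟶
          HomotopyCategory.quotient _ _ ⋙ DerivedCategory.Qh) I from rfl) ?_
    simp
  have fac' : ((CxOX.gammaZKh j).totalRightDerivedUnit DerivedCategory.Qh (Wq X)).app ((Hq X).obj I) ≫
      (CxOX.RgammaZToId j).app (DerivedCategory.Qh.obj ((Hq X).obj I)) =
      (CxOX.gammaZKhι j).app ((Hq X).obj I) := by
    refine fac.trans ?_
    simp
  have nat' : (CxOX.RgammaZ j).map ((DerivedCategory.quotientCompQhIso X.Modules).hom.app I) ≫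
      (CxOX.RgammaZToId j).app (DerivedCategory.Q.obj I) =
      (CxOX.RgammaZToId j).app (DerivedCategory.Qh.obj ((Hq X).obj I)) ≫
        (DerivedCategory.quotientCompQhIso X.Modules).hom.app I := nat
  unfold u₁
  simp only [Category.assoc]
  rw [nat', reassoc_of% fac', hι]
  simp only [Category.assoc]
  dsimp only [Hq]
  have e1 := DerivedCategory.quotientCompQhIso_hom_naturality (C := X.Modules)
    ((NatTrans.mapHomologicalComplex (CxOX.gammaZι j) (ComplexShape.up ℤ)).app I)
  have e2 := DerivedCategory.quotientCompQhIso_hom_naturality (C := X.Modules)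
    ((Functor.mapHomologicalComplexIdIso X.Modules (ComplexShape.up ℤ)).hom.app I)
  dsimp only [Functor.id_obj] at e1 e2
  rw [e2, reassoc_of% e1, ← Functor.map_comp_assoc, Iso.inv_hom_id_app]
  erw [CategoryTheory.Functor.map_id]
  rw [Category.id_comp, Iso.inv_hom_id_app_assoc]

end first

end Groth.Agent.H33.LocCoh
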