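import Mathlib
import Groth.Agent.H33.LocCoh.Triangle1

/-!
# The distinguished triangle `RΓ_Z(K) ⟶ K ⟶ Rj_* j^* K`: the second map
-/

set_option autoImplicit false
universe u
open CategoryTheory CategoryTheory.Limits AlgebraicGeometry Scheme.Modules

attribute [local instance] HasDerivedCategory.standard

namespace Groth.Agent.H33.LocCoh

variable {U X : Scheme.{u}} (j : U ⟶ X) [IsOpenImmersion j]

section second

variable [DCoh.HasRpush j]

/-- the identity-like chain map `(j^* ⋙ j_*)(I) ⟶ j_*(j^* I)` -/
noncomputable def σ (I : CochainComplex X.Modules ℤ) :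
    ((restrictFunctor j ⋙ pushforward j).mapHomologicalComplex (ComplexShape.up ℤ)).obj I ⟶
      ((pushforward j).mapHomologicalComplex (ComplexShape.up ℤ)).obj
        (((restrictFunctor j).mapHomologicalComplex (ComplexShape.up ℤ)).obj I) where
  f i := 𝟙 _

instance (I : CochainComplex X.Modules ℤ) : IsIso (σ j I) := by
  have : ∀ i, IsIso ((σ j I).f i) := fun i => by
    dsimp [σ]
    exact IsIso.id _
  exact HomologicalComplex.Hom.isIso_of_components _

omit [DCoh.HasRpush j] in
lemma idIso_comp_unitC (I : CochainComplex X.Modules ℤ) :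
    (Functor.mapHomologicalComplexIdIso X.Modules (ComplexShape.up ℤ)).hom.app I ≫
      Groth.Agent.H33.DerAdjU.unitC (restrictAdjunction j) (ComplexShape.up ℤ) I =
    (NatTrans.mapHomologicalComplex (restrictAdjunction j).unit (ComplexShape.up ℤ)).app I ≫
      σ j I := by
  refine HomologicalComplex.hom_ext _ _ (fun i => ?_)
  simp only [σ, Functor.mapHomologicalComplexIdIso, HomologicalComplex.comp_f,
    NatIso.ofComponents_hom_app,
    Groth.Agent.H33.DerAdjU.unitC_f, NatTrans.mapHomologicalComplex_app_f]
  erw [Category.comp_id]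
  exact Category.id_comp _

/-- the tail of the comparison map `u₃` -/
noncomputable def tail (I : CochainComplex X.Modules ℤ) :
    DerivedCategory.Qh.obj ((Hq X).obj (((pushforward j).mapHomologicalComplex (ComplexShape.up ℤ)).obj
        (((restrictFunctor j).mapHomologicalComplex (ComplexShape.up ℤ)).obj I))) ⟶
      (DCoh.Rpush j).obj ((DCoh.restrictD j).obj (DerivedCategory.Q.obj I)) :=
  (Groth.Agent.H33.DerAdjU.RRunit (pushforward j)).app
      (((restrictFunctor j).mapHomotopyCategory (ComplexShape.up ℤ)).obj ((Hq X).obj I)) ≫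
    inv ((DCoh.Rpush j).map
      ((restrictFunctor j).mapDerivedCategoryFactorsh.hom.app ((Hq X).obj I))) ≫
    (DCoh.Rpush j).map ((DCoh.restrictD j).map
      ((DerivedCategory.quotientCompQhIso X.Modules).hom.app I))

/-- the comparison `Q(j_* j^* I) ⟶ Rj_* j^* (Q I)` -/
noncomputable def u₃ (I : CochainComplex X.Modules ℤ) :
    DerivedCategory.Q.obj (((restrictFunctor j ⋙ pushforward j).mapHomologicalComplex
        (ComplexShape.up ℤ)).obj I) ⟶
      (DCoh.Rpush j).obj ((DCoh.restrictD j).obj (DerivedCategory.Q.obj I)) :=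
  (DerivedCategory.quotientCompQhIso X.Modules).inv.app _ ≫
    DerivedCategory.Qh.map ((Hq X).map (σ j I)) ≫ tail j I

lemma unit_comp_u₃ (I : CochainComplex X.Modules ℤ) :
    DerivedCategory.Q.map
        ((Functor.mapHomologicalComplexIdIso X.Modules (ComplexShape.up ℤ)).hom.app I) ≫
      (dadj j).unit.app (DerivedCategory.Q.obj I) =
    DerivedCategory.Q.map
        ((NatTrans.mapHomologicalComplex (restrictAdjunction j).unit (ComplexShape.up ℤ)).app I) ≫
      u₃ j I := by
  have nat := (dadj j).unit.naturality ((DerivedCategory.quotientCompQhIso X.Modules).hom.app I)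
  have fac := Groth.Agent.H33.DerAdjU.derivedAdj_unit_fac (restrictAdjunction j)
    (Groth.Agent.H33.SchemeDer.hKinj U) ((Hq X).obj I)
  have nat' : (DerivedCategory.quotientCompQhIso X.Modules).hom.app I ≫
      (dadj j).unit.app (DerivedCategory.Q.obj I) =
      (dadj j).unit.app (DerivedCategory.Qh.obj ((Hq X).obj I)) ≫
        (DCoh.Rpush j).map ((DCoh.restrictD j).map
          ((DerivedCategory.quotientCompQhIso X.Modules).hom.app I)) := nat
  have fac' : (dadj j).unit.app (DerivedCategory.Qh.obj ((Hq X).obj I)) =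
      (DerivedCategory.Qh.map ((Hq X).map
        (Groth.Agent.H33.DerAdjU.unitC (restrictAdjunction j) (ComplexShape.up ℤ) I)) ≫
      (Groth.Agent.H33.DerAdjU.RRunit (pushforward j)).app
        (((restrictFunctor j).mapHomotopyCategory (ComplexShape.up ℤ)).obj ((Hq X).obj I))) ≫
      inv ((DCoh.Rpush j).map
        ((restrictFunctor j).mapDerivedCategoryFactorsh.hom.app ((Hq X).obj I))) :=
    (IsIso.eq_comp_inv _).2 fac
  have hη : (dadj j).unit.app (DerivedCategory.Q.obj I) =
      (DerivedCategory.quotientCompQhIso X.Modules).inv.app I ≫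
        DerivedCategory.Qh.map ((Hq X).map
          (Groth.Agent.H33.DerAdjU.unitC (restrictAdjunction j) (ComplexShape.up ℤ) I)) ≫
        tail j I := by
    rw [← cancel_epi ((DerivedCategory.quotientCompQhIso X.Modules).hom.app I),
      Iso.hom_inv_id_app_assoc, nat', fac']
    unfold tail
    exact (Category.assoc (obj := DerivedCategory X.Modules) _ _ _).trans
      (Category.assoc (obj := DerivedCategory X.Modules) _ _ _)
  rw [hη]
  unfold u₃
  have e1 := DerivedCategory.quotientCompQhIso_inv_naturality (C := X.Modules)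
    ((Functor.mapHomologicalComplexIdIso X.Modules (ComplexShape.up ℤ)).hom.app I)
  have e2 := DerivedCategory.quotientCompQhIso_inv_naturality (C := X.Modules)
    ((NatTrans.mapHomologicalComplex (restrictAdjunction j).unit (ComplexShape.up ℤ)).app I)
  dsimp only [Functor.id_obj] at e1 e2
  rw [reassoc_of% e1, reassoc_of% e2, ← Functor.map_comp_assoc, ← Functor.map_comp_assoc,
    ← Functor.map_comp, ← Functor.map_comp, idIso_comp_unitC]

lemma isIso_u₃ (I : CochainComplex X.Modules ℤ)
    (hI' : CochainComplex.IsKInjective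
      (((restrictFunctor j).mapHomologicalComplex (ComplexShape.up ℤ)).obj I)) :
    IsIso (u₃ j I) := by
  have h1 : IsIso ((Groth.Agent.H33.DerAdjU.RRunit (pushforward j)).app
      (((restrictFunctor j).mapHomotopyCategory (ComplexShape.up ℤ)).obj ((Hq X).obj I))) :=
    Groth.Agent.H5.KInjDeriv.isIso_totalRightDerivedUnit_app
      (Groth.Agent.H33.SchemeDer.hKinj U)
      ((pushforward j).mapHomotopyCategory (ComplexShape.up ℤ) ⋙ DerivedCategory.Qh) _ hI'
  have h3 : IsIso ((DCoh.Rpush j).map ((DCoh.restrictD j).map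
      ((DerivedCategory.quotientCompQhIso X.Modules).hom.app I))) := inferInstance
  have h4 : IsIso (inv ((DCoh.Rpush j).map
      ((restrictFunctor j).mapDerivedCategoryFactorsh.hom.app ((Hq X).obj I)))) := inferInstance
  have h2 : IsIso (tail j I) := by
    unfold tail
    exact @IsIso.comp_isIso _ _ _ _ _ _ _ h1 (@IsIso.comp_isIso _ _ _ _ _ _ _ h4 h3)
  unfold u₃
  infer_instance

end second

end Groth.Agent.H33.LocCoh
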