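import Mathlib
import Groth.Agent.H33.LocCoh.Triangle2

/-!
# The distinguished triangle `RΓ_Z(K) ⟶ K ⟶ Rj_* j^* K ⟶ RΓ_Z(K)[1]`
-/

set_option autoImplicit false
universe u
open CategoryTheory CategoryTheory.Limits AlgebraicGeometry Scheme.Modules
  CategoryTheory.Pretriangulated

attribute [local instance] HasDerivedCategory.standard

namespace Groth.Agent.H33.LocCoh

variable {U X : Scheme.{u}} (j : U ⟶ X) [IsOpenImmersion j] [CxOX.HasRgammaZ j] [DCoh.HasRpush j]

/-- the triangle on a K-injective, termwise injective complex whose restriction is K-injective -/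
theorem exists_triangle_Q (I : CochainComplex X.Modules ℤ) (hI : I.IsKInjective)
    (hinj : ∀ n, Injective (I.X n))
    (hI' : CochainComplex.IsKInjective
      (((restrictFunctor j).mapHomologicalComplex (ComplexShape.up ℤ)).obj I)) :
    ∃ δ : (DCoh.Rpush j).obj ((DCoh.restrictD j).obj (DerivedCategory.Q.obj I)) ⟶
        ((CxOX.RgammaZ j).obj (DerivedCategory.Q.obj I))⟦(1 : ℤ)⟧,
      Triangle.mk ((CxOX.RgammaZToId j).app (DerivedCategory.Q.obj I))
        ((dadj j).unit.app (DerivedCategory.Q.obj I)) δ ∈ distTriang (DCoh.D X) := by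
  obtain ⟨c, hc⟩ := exists_triangle_gammaZ j I hinj
  have h1 := isIso_u₁ j I hI
  have h3 := isIso_u₃ j I hI'
  let e₁ := @asIso _ _ _ _ (u₁ j I) h1
  let e₃ := @asIso _ _ _ _ (u₃ j I) h3
  let e₂ : DerivedCategory.Q.obj (((𝟭 X.Modules).mapHomologicalComplex (ComplexShape.up ℤ)).obj I) ≅
      DerivedCategory.Q.obj I :=
    DerivedCategory.Q.mapIso ((Functor.mapHomologicalComplexIdIso X.Modules (ComplexShape.up ℤ)).app I)
  refine ⟨inv (u₃ j I) ≫ c ≫ (u₁ j I)⟦(1 : ℤ)⟧', ?_⟩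
  refine isomorphic_distinguished _ hc _ (Triangle.isoMk _ _ e₁ e₂ e₃ ?_ ?_ ?_).symm
  · exact (u₁_comp_RgammaZToId j I).symm
  · exact (unit_comp_u₃ j I).symm
  · exact (IsIso.hom_inv_id_assoc (u₃ j I) (c ≫ (u₁ j I)⟦(1 : ℤ)⟧')).symm

omit [IsOpenImmersion j] [CxOX.HasRgammaZ j] [DCoh.HasRpush j] in
/-- every object of `D(O_X)` is represented by a K-injective, termwise injective complex -/
lemma exists_kInjective_injective_rep (G : DCoh.D X) :
    ∃ (I : CochainComplex X.Modules ℤ), I.IsKInjective ∧ (∀ n, Injective (I.X n)) ∧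
      Nonempty (G ≅ DerivedCategory.Q.obj I) := by
  obtain ⟨I, f, hI, hf, -, hinj⟩ :=
    Groth.Agent.H33.KInj.exists_kInjective_resolution (DerivedCategory.Q.objPreimage G)
  have : IsIso (DerivedCategory.Q.map f) := by
    rw [DerivedCategory.isIso_Q_map_iff_quasiIso]
    exact hf
  exact ⟨I, hI, hinj,
    ⟨(DerivedCategory.Q.objObjPreimageIso G).symm ≪≫ asIso (DerivedCategory.Q.map f)⟩⟩

/-- transport of the triangle along an isomorphism `K ≅ K'` -/
theorem exists_triangle_of_iso {K K' : DCoh.D X} (e : K ≅ K')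
    (h : ∃ δ : (DCoh.Rpush j).obj ((DCoh.restrictD j).obj K') ⟶
        ((CxOX.RgammaZ j).obj K')⟦(1 : ℤ)⟧,
      Triangle.mk ((CxOX.RgammaZToId j).app K') ((dadj j).unit.app K') δ ∈ distTriang (DCoh.D X)) :
    ∃ δ : (DCoh.Rpush j).obj ((DCoh.restrictD j).obj K) ⟶ ((CxOX.RgammaZ j).obj K)⟦(1 : ℤ)⟧,
      Triangle.mk ((CxOX.RgammaZToId j).app K) ((dadj j).unit.app K) δ ∈ distTriang (DCoh.D X) := by
  obtain ⟨δ, hδ⟩ := h
  refine ⟨(DCoh.Rpush j).map ((DCoh.restrictD j).map e.hom) ≫ δ ≫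
    ((CxOX.RgammaZ j).map e.inv)⟦(1 : ℤ)⟧', ?_⟩
  refine isomorphic_distinguished _ hδ _ (Triangle.isoMk _ _ ((CxOX.RgammaZ j).mapIso e) e
    ((DCoh.restrictD j ⋙ DCoh.Rpush j).mapIso e) ?_ ?_ ?_)
  · exact ((CxOX.RgammaZToId j).naturality e.hom).symm
  · exact ((dadj j).unit.naturality e.hom).symm
  · show ((DCoh.Rpush j).map ((DCoh.restrictD j).map e.hom) ≫ δ ≫
        ((CxOX.RgammaZ j).map e.inv)⟦(1 : ℤ)⟧') ≫ ((CxOX.RgammaZ j).map e.hom)⟦(1 : ℤ)⟧' =
      (DCoh.Rpush j).map ((DCoh.restrictD j).map e.hom) ≫ δ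
    rw [Category.assoc, Category.assoc, ← Functor.map_comp, ← Functor.map_comp, e.inv_hom_id,
      CategoryTheory.Functor.map_id, CategoryTheory.Functor.map_id, Category.comp_id]

/-- **The local cohomology triangle** `RΓ_Z(K) ⟶ K ⟶ Rj_* j^* K ⟶ RΓ_Z(K)[1]` for the inclusion
`j` of an open `V` with closed complement `Z`: the first map is the canonical `RgammaZToId`, the
second is the unit of the derived adjunction `dadj`. -/
theorem exists_locCoh_triangle {X : Scheme.{u}} (V : X.Opens) [CxOX.HasRgammaZ V.ι]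
    [DCoh.HasRpush V.ι] (K : DCoh.D X) :
    ∃ δ : (DCoh.Rpush V.ι).obj ((DCoh.restrictD V.ι).obj K) ⟶
        ((CxOX.RgammaZ V.ι).obj K)⟦(1 : ℤ)⟧,
      Triangle.mk ((CxOX.RgammaZToId V.ι).app K) ((dadj V.ι).unit.app K) δ ∈
        distTriang (DCoh.D X) := by
  obtain ⟨I, hI, hinj, ⟨e⟩⟩ := exists_kInjective_injective_rep K
  exact exists_triangle_of_iso V.ι e (exists_triangle_Q V.ι I hI hinj
    (Groth.Agent.H33.SchemeDer.isKInjective_restrict V I hI))

end Groth.Agent.H33.LocCoh
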