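import Mathlib
import Groth.Agent.H33.LocCoh.Triangle
import Groth.Agent.S0922

/-!
# Consequences of the local cohomology triangle
-/

set_option autoImplicit false
universe u
open CategoryTheory CategoryTheory.Limits AlgebraicGeometry Scheme.Modules
  CategoryTheory.Pretriangulated

attribute [local instance] HasDerivedCategory.standard

namespace Groth.Agent.H33.LocCoh

section general

variable {X Y : Scheme.{u}} (j : X ⟶ Y) [IsOpenImmersion j] [DCoh.HasRpush j]

/-- the counit of any adjunction `j^* ⊣ Rj_*` is an isomorphism -/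
lemma isIso_counit (adj : DCoh.restrictD j ⊣ DCoh.Rpush j) : IsIso adj.counit := by
  have : (DCoh.Rpush j).Full := (dadj j).fullyFaithfulROfIsIsoCounit.full
  have : (DCoh.Rpush j).Faithful := (dadj j).fullyFaithfulROfIsIsoCounit.faithful
  infer_instance

/-- the unit of any adjunction `j^* ⊣ Rj_*` is an isomorphism on the essential image of `Rj_*` -/
theorem isIso_unit_of_iso_Rpush (adj : DCoh.restrictD j ⊣ DCoh.Rpush j) {E : DCoh.D Y}
    {F : DCoh.D X} (e : E ≅ (DCoh.Rpush j).obj F) : IsIso (adj.unit.app E) := by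
  have hc := isIso_counit j adj
  have h1 : IsIso (adj.unit.app ((DCoh.Rpush j).obj F)) := by
    have h := adj.right_triangle_components F
    have : IsIso (adj.unit.app ((DCoh.Rpush j).obj F) ≫
        (DCoh.Rpush j).map (adj.counit.app F)) := by rw [h]; exact IsIso.id _
    exact IsIso.of_isIso_comp_right _ ((DCoh.Rpush j).map (adj.counit.app F))
  have nat := adj.unit.naturality e.hom
  have h2 : adj.unit.app E = e.hom ≫ adj.unit.app ((DCoh.Rpush j).obj F) ≫
      inv ((DCoh.restrictD j ⋙ DCoh.Rpush j).map e.hom) := by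
    rw [Functor.id_map] at nat
    rw [← Category.assoc, nat, Category.assoc, IsIso.hom_inv_id, Category.comp_id]
  rw [h2]
  infer_instance

omit [IsOpenImmersion j] [DCoh.HasRpush j] in
lemma nonempty_Rpush_iso_of_eq {f g : X ⟶ Y} (h : f = g) [DCoh.HasRpush f] [DCoh.HasRpush g] :
    Nonempty (DCoh.Rpush f ≅ DCoh.Rpush g) := by
  subst h
  exact ⟨Iso.refl _⟩

end general

section opens

variable {X : Scheme.{u}} (V : X.Opens) [CxOX.HasRgammaZ V.ι] [DCoh.HasRpush V.ι]

/-- `RΓ_Z(G) = 0` iff the unit `G ⟶ Rj_* j^* G` is an isomorphism -/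
theorem isZero_RgammaZ_iff_isIso_unit (G : DCoh.D X) :
    IsZero ((CxOX.RgammaZ V.ι).obj G) ↔ IsIso ((dadj V.ι).unit.app G) := by
  obtain ⟨δ, hδ⟩ := exists_locCoh_triangle V G
  exact Triangle.isZero₁_iff_isIso₂ _ hδ

/-- `RΓ_Z` vanishes on the essential image of `Rj_*` -/
theorem isZero_RgammaZ_of_iso_Rpush {G : DCoh.D X} {G' : DCoh.D (V : Scheme.{u})}
    (e : G ≅ (DCoh.Rpush V.ι).obj G') : IsZero ((CxOX.RgammaZ V.ι).obj G) :=
  (isZero_RgammaZ_iff_isIso_unit V G).2 (isIso_unit_of_iso_Rpush V.ι (dadj V.ι) e)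

end opens

end Groth.Agent.H33.LocCoh
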