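import Mathlib
import Groth.Agent.H33.LocCoh.Equiv

/-!
# `Rj_*` and `j^*` on complexes supported on a closed subset and its closure
-/

set_option autoImplicit false
set_option linter.unusedSectionVars false
universe u
open CategoryTheory CategoryTheory.Limits AlgebraicGeometry Scheme.Modules
  CategoryTheory.Pretriangulated

attribute [local instance] HasDerivedCategory.standard

namespace Groth.Agent.H33.LocCoh

section supp

variable {X : Scheme.{u}} (V : X.Opens)

lemma stalk_of_isSuppD {K : DCoh.D X} (hK : CxOX.IsSuppD V.ι K) (i : ℤ) (x : X) (hx : x ∈ V) :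
    Subsingleton ((DCoh.HD K i).presheaf.stalk x) := by
  by_contra h
  exact hK i h ⟨⟨x, hx⟩, rfl⟩

lemma isSuppD_of_stalk {K : DCoh.D X}
    (h : ∀ (i : ℤ) (x : X), x ∈ V → Subsingleton ((DCoh.HD K i).presheaf.stalk x)) :
    CxOX.IsSuppD V.ι K := by
  intro i x hx hxr
  obtain ⟨y, rfl⟩ := hxr
  exact hx (h i _ y.2)

end supp

variable {X Xbar : Scheme.{u}} (j : X ⟶ Xbar) [IsOpenImmersion j] (U : X.Opens)
  (U' T : Xbar.Opens)

section top

variable (hU' : (U' : Set Xbar) = (closure (j.base '' ((U : Set X)ᶜ)))ᶜ)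

omit [IsOpenImmersion j] in
include hU' in
lemma mem_of_apply_mem (x : X) (hx : j.base x ∈ U') : x ∈ U := by
  by_contra h
  have h1 : j.base x ∈ closure (j.base '' ((U : Set X)ᶜ)) := subset_closure ⟨x, h, rfl⟩
  have h2 : j.base x ∈ (U' : Set Xbar) := hx
  rw [hU'] at h2
  exact h2 h1

include hU' in
lemma apply_mem_of_mem (x : X) (hx : x ∈ U) : j.base x ∈ U' := by
  show j.base x ∈ (U' : Set Xbar)
  rw [hU']
  intro hcl
  have hopen : IsOpen (j.base '' (U : Set X)) := j.isOpenEmbedding.isOpenMap _ U.isOpen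
  obtain ⟨_, ⟨a, ha, rfl⟩, ⟨b, hb, hab⟩⟩ := mem_closure_iff.1 hcl _ hopen ⟨x, hx, rfl⟩
  have : b = a := j.isOpenEmbedding.injective hab
  subst this
  exact hb ha

end top

section main

variable [DCoh.HasRpush j]
  (hU' : (U' : Set Xbar) = (closure (j.base '' ((U : Set X)ᶜ)))ᶜ)
  (hT : (T : Set Xbar) = (U' : Set Xbar) ∪ Set.range j.base)

include hU' in
/-- (a1) `Rj_* F` is supported off `U'` if `F` is supported off `U` -/
theorem isSuppD_Rpush (F : DCoh.D X) (hF : CxOX.IsSuppD U.ι F) :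
    CxOX.IsSuppD U'.ι ((DCoh.Rpush j).obj F) := by
  have hz : IsZero ((DCoh.restrictD U'.ι).obj ((DCoh.Rpush j).obj F)) := by
    have := Supp.hasRpush (j ∣_ U')
    obtain ⟨e⟩ := Groth.Agent.H33.SchemeDer.restrictD_Rpush_iso j U'
    have := Groth.Agent.H33.SchemeDer.additive_rpush (j ∣_ U')
    refine IsZero.of_iso ((DCoh.Rpush (j ∣_ U')).map_isZero ?_) (e.app F)
    refine Supp.isZero_restrictD_of_stalks (j ⁻¹ᵁ U').ι F (fun i w => ?_)
    exact stalk_of_isSuppD U hF i _ (mem_of_apply_mem j U U' hU' _ w.2)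
  exact isSuppD_of_stalk U'
    (fun i x hx => subsingleton_stalk_HD_of_isZero_restrictD U' _ hz i x hx)

include hT in
omit [DCoh.HasRpush j] in
lemma range_subset_range_ι : Set.range j.base ⊆ Set.range T.ι.base := by
  rw [Scheme.Opens.range_ι, hT]
  exact Set.subset_union_right

/-- the factorization of `j` through `T` -/
noncomputable def jT (h : Set.range j.base ⊆ Set.range T.ι.base) : X ⟶ (T : Scheme.{u}) :=
  IsOpenImmersion.lift T.ι j h

omit [DCoh.HasRpush j] in
@[reassoc]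
lemma jT_fac (h : Set.range j.base ⊆ Set.range T.ι.base) : jT j T h ≫ T.ι = j :=
  IsOpenImmersion.lift_fac _ _ _

omit [DCoh.HasRpush j] in
instance (h : Set.range j.base ⊆ Set.range T.ι.base) : IsOpenImmersion (jT j T h) := by
  have : IsOpenImmersion (jT j T h ≫ T.ι) := by
    rw [jT_fac]
    infer_instance
  exact IsOpenImmersion.of_comp (jT j T h) T.ι

/-- `Rj_* ≅ Rj'_* ⋙ Rt_*` for the factorization `j = j' ≫ t` -/
lemma nonempty_Rpush_iso_comp (h : Set.range j.base ⊆ Set.range T.ι.base)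
    [DCoh.HasRpush (jT j T h)] [DCoh.HasRpush T.ι] :
    Nonempty (DCoh.Rpush j ≅ DCoh.Rpush (jT j T h) ⋙ DCoh.Rpush T.ι) := by
  have := Supp.hasRpush (jT j T h ≫ T.ι)
  obtain ⟨e1⟩ := Groth.Agent.S0922.result (jT j T h) T.ι
  obtain ⟨e2⟩ := nonempty_Rpush_iso_of_eq (jT_fac j T h)
  exact ⟨e2.symm ≪≫ e1.symm⟩

include hT in
/-- (a2) `RΓ_{Xbar ∖ T}` vanishes on `Rj_* F` -/
theorem isZero_RgammaZ_Rpush [CxOX.HasRgammaZ T.ι] (F : DCoh.D X) :
    IsZero ((CxOX.RgammaZ T.ι).obj ((DCoh.Rpush j).obj F)) := by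
  have h := range_subset_range_ι j U' T hT
  have := Supp.hasRpush (jT j T h)
  have := Supp.hasRpush T.ι
  obtain ⟨e⟩ := nonempty_Rpush_iso_comp j T h
  exact isZero_RgammaZ_of_iso_Rpush T (e.app F)

include hT in
/-- (c1) the unit is an isomorphism at objects supported off `U'` on which `RΓ_{Xbar ∖ T}`
vanishes -/
theorem isIso_unit_of_isSuppD [CxOX.HasRgammaZ T.ι] (adj : DCoh.restrictD j ⊣ DCoh.Rpush j)
    (G : DCoh.D Xbar) (hG : CxOX.IsSuppD U'.ι G)
    (hz : IsZero ((CxOX.RgammaZ T.ι).obj G)) : IsIso (adj.unit.app G) := by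
  have h := range_subset_range_ι j U' T hT
  have := Supp.hasRpush (jT j T h)
  have := Supp.hasRpush T.ι
  have h1 : IsIso ((dadj T.ι).unit.app G) := (isZero_RgammaZ_iff_isIso_unit T G).1 hz
  let G_T := (DCoh.restrictD T.ι).obj G
  let W' : (T : Scheme.{u}).Opens := T.ι ⁻¹ᵁ U'
  have hW' : (W' : Set (T : Scheme.{u}))ᶜ ⊆ Set.range (jT j T h).base := by
    intro t ht
    have ht' : T.ι.base t ∉ (U' : Set Xbar) := ht
    have htT : T.ι.base t ∈ (T : Set Xbar) := t.2
    rw [hT] at htT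
    rcases htT with h' | ⟨x, hx⟩
    · exact absurd h' ht'
    · refine ⟨x, T.ι.isOpenEmbedding.injective ?_⟩
      rw [← hx]
      have := congrArg (fun φ : X ⟶ Xbar => φ.base x) (jT_fac j T h)
      simpa using this
  have hzero : IsZero ((DCoh.restrictD W'.ι).obj G_T) := by
    refine Supp.isZero_restrictD_of_stalks W'.ι G_T (fun i w => ?_)
    refine subsingleton_stalk_of_iso
      ((Groth.Agent.H16.ExactDer.homologyNatIso (restrictFunctor T.ι) i).app G).symm _ ?_
    refine subsingleton_stalk_restrict T.ι _ _ ?_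
    exact stalk_of_isSuppD U' hG i _ w.2
  have h2 : IsIso ((dadj (jT j T h)).unit.app G_T) :=
    isIso_dadj_unit_of_isZero_restrictD (jT j T h) W' hW' G_T hzero
  obtain ⟨e⟩ := nonempty_Rpush_iso_comp j T h
  exact isIso_unit_of_iso_Rpush j adj
    (asIso ((dadj T.ι).unit.app G) ≪≫
      (DCoh.Rpush T.ι).mapIso (asIso ((dadj (jT j T h)).unit.app G_T)) ≪≫
      (e.app ((DCoh.restrictD (jT j T h)).obj G_T)).symm)

/-- (c2) restriction preserves quasi-coherent cohomology -/
theorem isQCohD_restrictD (G : DCoh.D Xbar) (hG : DCoh.IsQCohD G) :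
    DCoh.IsQCohD ((DCoh.restrictD j).obj G) := by
  intro i
  have : (DCoh.HD G i).IsQuasicoherent := hG i
  exact (SheafOfModules.isQuasicoherent X.ringCatSheaf).prop_of_iso
    ((Groth.Agent.H16.ExactDer.homologyNatIso (restrictFunctor j) i).app G).symm
    (inferInstance : ((restrictFunctor j).obj (DCoh.HD G i)).IsQuasicoherent)

include hU' in
/-- (c3) `j^* G` is supported off `U` if `G` is supported off `U'` -/
theorem isSuppD_restrictD (G : DCoh.D Xbar) (hG : CxOX.IsSuppD U'.ι G) :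
    CxOX.IsSuppD U.ι ((DCoh.restrictD j).obj G) := by
  refine isSuppD_of_stalk U (fun i x hx => ?_)
  refine subsingleton_stalk_of_iso
    ((Groth.Agent.H16.ExactDer.homologyNatIso (restrictFunctor j) i).app G).symm _ ?_
  refine subsingleton_stalk_restrict j _ _ ?_
  exact stalk_of_isSuppD U' hG i _ (apply_mem_of_mem j U U' hU' x hx)

end main

end Groth.Agent.H33.LocCoh
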