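import Mathlib
import Groth.Agent.H33.LocCoh.Equiv
import Groth.Agent.H33.DerTriangle

/-!
# `Rf_* RΓ_{f⁻¹Z} ≅ RΓ_Z Rf_*`
-/

set_option autoImplicit false
set_option linter.unusedSectionVars false
universe u
open CategoryTheory CategoryTheory.Limits AlgebraicGeometry Scheme.Modules
  CategoryTheory.Pretriangulated

attribute [local instance] HasDerivedCategory.standard

namespace Groth.Agent.H33.LocCoh

section general

variable {X Y : Scheme.{u}} (j : X ⟶ Y) [IsOpenImmersion j] [DCoh.HasRpush j]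

/-- `j^*` of the unit is an isomorphism -/
lemma isIso_restrictD_map_unit (E : DCoh.D Y) :
    IsIso ((DCoh.restrictD j).map ((dadj j).unit.app E)) := by
  have h := (dadj j).left_triangle_components E
  have : IsIso ((dadj j).counit.app ((DCoh.restrictD j).obj E)) := inferInstance
  have : IsIso ((DCoh.restrictD j).map ((dadj j).unit.app E) ≫
      (dadj j).counit.app ((DCoh.restrictD j).obj E)) := by rw [h]; exact IsIso.id _
  exact IsIso.of_isIso_comp_right _ ((dadj j).counit.app ((DCoh.restrictD j).obj E))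

/-- a morphism between objects of the essential image of `Rj_*` which restricts to an
isomorphism along `j` is an isomorphism -/
lemma isIso_of_isIso_restrictD_of_essImage {M N : DCoh.D Y} (c : M ⟶ N)
    (hM : IsIso ((dadj j).unit.app M)) (hN : IsIso ((dadj j).unit.app N))
    (hc : IsIso ((DCoh.restrictD j).map c)) : IsIso c := by
  have nat := (dadj j).unit.naturality c
  rw [Functor.id_map] at nat
  have h : c = (dadj j).unit.app M ≫ (DCoh.restrictD j ⋙ DCoh.Rpush j).map c ≫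
      inv ((dadj j).unit.app N) := by
    rw [← Category.assoc, ← nat, Category.assoc, IsIso.hom_inv_id, Category.comp_id]
  have : IsIso ((DCoh.restrictD j ⋙ DCoh.Rpush j).map c) := by
    dsimp only [Functor.comp_map]
    infer_instance
  rw [h]
  infer_instance

end general

variable {X Y : Scheme.{u}} (f : X ⟶ Y) (U : Y.Opens) [DCoh.HasRpush f]

/-- `Rf_* Rj'_* ≅ Rj_* R(f|_U)_*` -/
lemma nonempty_Rpush_square [DCoh.HasRpush U.ι] [DCoh.HasRpush (f ⁻¹ᵁ U).ι]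
    [DCoh.HasRpush (f ∣_ U)] :
    Nonempty (DCoh.Rpush (f ⁻¹ᵁ U).ι ⋙ DCoh.Rpush f ≅ DCoh.Rpush (f ∣_ U) ⋙ DCoh.Rpush U.ι) := by
  have := Supp.hasRpush ((f ⁻¹ᵁ U).ι ≫ f)
  have := Supp.hasRpush ((f ∣_ U) ≫ U.ι)
  obtain ⟨e1⟩ := Groth.Agent.S0922.result (f ⁻¹ᵁ U).ι f
  obtain ⟨e2⟩ := Groth.Agent.S0922.result (f ∣_ U) U.ι
  obtain ⟨e3⟩ := nonempty_Rpush_iso_of_eq (morphismRestrict_ι f U)
  exact ⟨e1 ≪≫ e3.symm ≪≫ e2.symm⟩

variable [CxOX.HasRgammaZ U.ι] [CxOX.HasRgammaZ (f ⁻¹ᵁ U).ι]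

lemma isZero_restrictD_Rpush_RgammaZ (K : DCoh.D X) :
    IsZero ((DCoh.restrictD U.ι).obj
      ((DCoh.Rpush f).obj ((CxOX.RgammaZ (f ⁻¹ᵁ U).ι).obj K))) := by
  have := Supp.hasRpush (f ∣_ U)
  obtain ⟨e⟩ := Groth.Agent.H33.SchemeDer.restrictD_Rpush_iso f U
  have := Groth.Agent.H33.SchemeDer.additive_rpush (f ∣_ U)
  exact IsZero.of_iso ((DCoh.Rpush (f ∣_ U)).map_isZero
    (isZero_restrictD_RgammaZ (f ⁻¹ᵁ U).ι K)) (e.app _)

/-- (i) the factorization exists -/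
theorem exists_factorization (K : DCoh.D X) :
    ∃ α : (DCoh.Rpush f).obj ((CxOX.RgammaZ (f ⁻¹ᵁ U).ι).obj K) ⟶
        (CxOX.RgammaZ U.ι).obj ((DCoh.Rpush f).obj K),
      α ≫ (CxOX.RgammaZToId U.ι).app ((DCoh.Rpush f).obj K) =
        (DCoh.Rpush f).map ((CxOX.RgammaZToId (f ⁻¹ᵁ U).ι).app K) := by
  have := Supp.hasRpush U.ι
  obtain ⟨δ, hδ⟩ := exists_locCoh_triangle U ((DCoh.Rpush f).obj K)
  have := Groth.Agent.H33.SchemeDer.additive_rpush U.ι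
  have hz : IsZero ((DCoh.Rpush U.ι).obj ((DCoh.restrictD U.ι).obj
      ((DCoh.Rpush f).obj ((CxOX.RgammaZ (f ⁻¹ᵁ U).ι).obj K)))) :=
    (DCoh.Rpush U.ι).map_isZero (isZero_restrictD_Rpush_RgammaZ f U K)
  have nat := (dadj U.ι).unit.naturality
    ((DCoh.Rpush f).map ((CxOX.RgammaZToId (f ⁻¹ᵁ U).ι).app K))
  rw [Functor.id_map] at nat
  obtain ⟨α, hα⟩ := Triangle.coyoneda_exact₂ _ hδ
    ((DCoh.Rpush f).map ((CxOX.RgammaZToId (f ⁻¹ᵁ U).ι).app K)) (by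
      refine nat.trans ?_
      rw [hz.eq_of_tgt ((dadj U.ι).unit.app _) 0, zero_comp]
      rfl)
  exact ⟨α, hα.symm⟩

/-- (ii) every factorization is an isomorphism -/
theorem isIso_of_factorization (K : DCoh.D X)
    (α : (DCoh.Rpush f).obj ((CxOX.RgammaZ (f ⁻¹ᵁ U).ι).obj K) ⟶
        (CxOX.RgammaZ U.ι).obj ((DCoh.Rpush f).obj K))
    (hα : α ≫ (CxOX.RgammaZToId U.ι).app ((DCoh.Rpush f).obj K) =
        (DCoh.Rpush f).map ((CxOX.RgammaZToId (f ⁻¹ᵁ U).ι).app K)) : IsIso α := by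
  have := Supp.hasRpush U.ι
  have := Supp.hasRpush (f ⁻¹ᵁ U).ι
  have := Supp.hasRpush (f ∣_ U)
  obtain ⟨δ, hδ⟩ := exists_locCoh_triangle U ((DCoh.Rpush f).obj K)
  obtain ⟨δ', hδ'⟩ := exists_locCoh_triangle (f ⁻¹ᵁ U) K
  obtain ⟨w, hw⟩ : ∃ w : (DCoh.Rpush f).obj
        ((DCoh.Rpush (f ⁻¹ᵁ U).ι).obj ((DCoh.restrictD (f ⁻¹ᵁ U).ι).obj K)) ⟶
        ((DCoh.Rpush f).obj ((CxOX.RgammaZ (f ⁻¹ᵁ U).ι).obj K))⟦(1 : ℤ)⟧,
      Triangle.mk ((DCoh.Rpush f).map ((CxOX.RgammaZToId (f ⁻¹ᵁ U).ι).app K))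
        ((DCoh.Rpush f).map ((dadj (f ⁻¹ᵁ U).ι).unit.app K)) w ∈ distTriang (DCoh.D Y) :=
    Groth.Agent.H33.DerTriangle.exists_distinguished
      (Groth.Agent.H33.SchemeDer.hKinj X) (DCoh.pushKh f) _ hδ'
  obtain ⟨c, hc₁', hc₂⟩ : ∃ c : (DCoh.Rpush f).obj
        ((DCoh.Rpush (f ⁻¹ᵁ U).ι).obj ((DCoh.restrictD (f ⁻¹ᵁ U).ι).obj K)) ⟶
        (DCoh.Rpush U.ι).obj ((DCoh.restrictD U.ι).obj ((DCoh.Rpush f).obj K)),
      (DCoh.Rpush f).map ((dadj (f ⁻¹ᵁ U).ι).unit.app K) ≫ c =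
        𝟙 _ ≫ (dadj U.ι).unit.app ((DCoh.Rpush f).obj K) ∧
      w ≫ α⟦(1 : ℤ)⟧' = c ≫ δ :=
    complete_distinguished_triangle_morphism _ _ hw hδ α (𝟙 _)
      ((Category.comp_id _).trans hα.symm)
  have hc₁ : (DCoh.Rpush f).map ((dadj (f ⁻¹ᵁ U).ι).unit.app K) ≫ c =
      (dadj U.ι).unit.app ((DCoh.Rpush f).obj K) := hc₁'.trans (Category.id_comp _)
  -- `c` is an isomorphism
  have hc : IsIso c := by
    refine isIso_of_isIso_restrictD_of_essImage U.ι c ?_ ?_ ?_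
    · obtain ⟨e⟩ := nonempty_Rpush_square f U
      exact isIso_unit_of_iso_Rpush U.ι (dadj U.ι) (e.app _)
    · exact isIso_unit_of_iso_Rpush U.ι (dadj U.ι) (Iso.refl _)
    · have h1 : IsIso ((DCoh.restrictD U.ι).map ((dadj U.ι).unit.app ((DCoh.Rpush f).obj K))) :=
        isIso_restrictD_map_unit U.ι _
      have h2 : IsIso ((DCoh.restrictD U.ι).map
          ((DCoh.Rpush f).map ((dadj (f ⁻¹ᵁ U).ι).unit.app K))) := by
        obtain ⟨e⟩ := Groth.Agent.H33.SchemeDer.restrictD_Rpush_iso f U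
        have h3 : IsIso ((DCoh.restrictD (f ⁻¹ᵁ U).ι ⋙ DCoh.Rpush (f ∣_ U)).map
            ((dadj (f ⁻¹ᵁ U).ι).unit.app K)) := by
          have := isIso_restrictD_map_unit (f ⁻¹ᵁ U).ι K
          dsimp only [Functor.comp_map]
          infer_instance
        exact (NatIso.isIso_map_iff e ((dadj (f ⁻¹ᵁ U).ι).unit.app K)).2 h3
      have h4 : IsIso ((DCoh.restrictD U.ι).map
          ((DCoh.Rpush f).map ((dadj (f ⁻¹ᵁ U).ι).unit.app K)) ≫
          (DCoh.restrictD U.ι).map c) := by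
        rw [← Functor.map_comp, hc₁]
        exact h1
      exact IsIso.of_isIso_comp_left ((DCoh.restrictD U.ι).map
        ((DCoh.Rpush f).map ((dadj (f ⁻¹ᵁ U).ι).unit.app K))) _
  let φ : Triangle.mk ((DCoh.Rpush f).map ((CxOX.RgammaZToId (f ⁻¹ᵁ U).ι).app K))
      ((DCoh.Rpush f).map ((dadj (f ⁻¹ᵁ U).ι).unit.app K)) w ⟶
      Triangle.mk ((CxOX.RgammaZToId U.ι).app ((DCoh.Rpush f).obj K))
        ((dadj U.ι).unit.app ((DCoh.Rpush f).obj K)) δ :=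
    { hom₁ := α
      hom₂ := 𝟙 _
      hom₃ := c
      comm₁ := (Category.comp_id _).trans hα.symm
      comm₂ := hc₁'
      comm₃ := hc₂ }
  exact isIso₁_of_isIso₂₃ φ hw hδ (IsIso.id _) hc

end Groth.Agent.H33.LocCoh
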